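import Cfsg.Agent.Lib.SchurMult.Engine

/-! Multiplier certificates for the Mathieu group of degree 22. -/

set_option autoImplicit false
set_option maxRecDepth 100000

namespace Cfsg.Agent.Lib.SchurMult.MTwentyTwo

/-- Certificate data. -/
def dataTwo : Engine.Data where
  p := 2
  n := 7
  rhs := [
    [2],
    [],
    [],
    [],
    [],
    [],
    [],
    [0,1,2],
    [0,2],
    [1,2],
    [0,3,4,5,6],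
    [1,3,4,6],
    [2,3,5],
    [0,4,5,6],
    [1,4],
    [2,4,6],
    [3,4],
    [0,5,6],
    [1,5,6],
    [2,5],
    [3,5],
    [4,5],
    [0,6],
    [1,6],
    [2,6],
    [3,6],
    [4,6],
    [5,6]]
  ord := [4,2,2,2,2,2,2]
  eqs := [
    .cons [0,0] [0],
    .cons [1,1] [0],
    .cons [3,3] [0],
    .cons [3,3] [1],
    .cons [3,1] [0],
    .cons [3,3] [2],
    .cons [3,2] [2],
    .cons [4,4] [0],
    .cons [4,4] [1],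
    .cons [4,4] [2],
    .cons [4,2] [1],
    .cons [4,3] [0],
    .cons [4,3] [1],
    .cons [5,5] [0],
    .cons [5,1] [0],
    .cons [5,5] [2],
    .cons [5,2] [0],
    .cons [5,5] [3],
    .cons [5,4] [2],
    .cons [6,6] [0],
    .fus 0 [5] [4] [3] [5],
    .fus 0 [3,5] [3] [4,5] [3,4,5],
    .fus 1 [0,1,2] [5] [1] [1,6],
    .fus 2 [5] [2] [4] [1],
    .fus 3 [6] [2] [1,6] [2],
    .fus 4 [2,6] [1,6] [2,5,6] [1,4,6]]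
  comp := [
    [0,1,0,0,0,0,0,0,0,0,0,0,0,0,0,0,0,0,0,0,0,0,0,0,0,0,0,0],
    [0,0,0,0,0,0,0,0,0,0,0,1,0,0,0,0,0,0,0,0,0,0,0,0,0,0,0,0],
    [0,0,0,1,0,0,0,0,0,0,0,0,0,0,0,0,0,0,0,0,0,0,0,0,0,0,0,0],
    [1,0,0,0,0,0,0,0,0,0,0,0,0,0,0,0,0,0,0,0,0,0,0,0,0,0,0,0],
    [0,0,0,0,0,0,0,1,0,0,0,0,0,0,0,0,0,0,0,0,0,0,0,0,0,0,0,0],
    [0,0,0,0,0,0,0,0,0,0,0,0,0,0,0,1,0,0,0,0,0,0,0,0,0,0,0,0],
    [0,0,0,0,0,0,0,0,0,0,0,0,1,0,0,0,0,0,0,0,0,0,0,0,0,0,0,0]]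
  coord := [
    [0,0,0,1,0,0,0],
    [1,0,0,0,0,0,0],
    [0,0,0,0,-2,0,0],
    [0,0,1,0,0,0,0],
    [0,-2,0,0,0,2,0],
    [0,0,0,0,0,0,-2],
    [0,0,0,0,0,-2,0],
    [0,0,0,0,1,0,0],
    [0,0,0,0,0,0,0],
    [0,0,0,0,0,0,0],
    [0,1,0,0,0,0,1],
    [0,1,0,0,0,0,0],
    [0,0,0,0,0,0,1],
    [0,0,0,0,0,1,1],
    [0,0,0,0,0,0,0],
    [0,0,0,0,0,1,0],
    [0,0,0,0,0,0,0],
    [0,0,0,0,0,1,0],
    [0,0,0,0,0,1,0],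
    [0,0,0,0,0,0,0],
    [0,0,0,0,0,0,0],
    [0,0,0,0,0,0,0],
    [0,0,0,0,0,0,0],
    [0,0,0,0,0,0,0],
    [0,0,0,0,0,0,0],
    [0,0,0,0,0,0,0],
    [0,0,0,0,0,0,0],
    [0,0,0,0,0,0,0]]
  scale := 2
  back := [
    [0,0,0,1,-1,0,0],
    [1,0,0,0,0,0,0],
    [0,0,0,0,-2,0,0],
    [0,0,1,0,0,0,0],
    [0,-2,0,0,0,2,0],
    [0,0,0,0,0,0,-2],
    [0,0,0,0,0,-2,0]]
  lam := [
    [0,0,0,0,0,0,0,0,0,0,0,0,0,0,0,0,0,0,0,0,0,0,0,0,0,0],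
    [0,0,0,0,0,0,0,0,0,0,0,0,0,0,0,0,0,0,0,0,0,0,0,0,0,0],
    [0,-1,0,0,0,0,0,0,0,0,0,0,0,0,0,0,0,0,0,0,0,0,0,0,-1,0],
    [0,0,0,0,0,0,0,0,0,0,0,0,0,0,0,0,0,0,0,0,0,0,0,0,0,0],
    [0,0,1,-2,0,-1,0,0,0,1,0,1,0,0,0,0,0,0,1,0,1,1,0,0,0,0],
    [0,0,-1,1,0,0,0,0,0,0,0,0,0,0,0,0,0,0,-1,0,-1,0,0,0,0,0],
    [0,0,0,0,0,0,0,0,0,-1,0,0,-1,0,0,0,0,0,0,0,0,0,0,0,0,0],
    [0,0,0,0,0,0,0,0,0,0,0,0,0,0,0,0,0,0,0,0,0,0,0,0,0,0],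
    [1,0,0,0,0,0,0,0,0,0,0,0,0,0,0,0,0,0,0,0,0,0,0,0,0,0],
    [0,0,0,0,0,0,0,0,0,0,0,0,0,0,0,0,0,0,0,0,0,0,0,0,1,0],
    [0,0,0,0,0,0,0,0,0,0,0,0,0,0,0,0,0,0,0,0,0,0,0,0,0,0],
    [0,0,0,0,0,0,0,0,0,0,0,0,0,0,0,0,0,0,0,0,0,0,0,0,0,0],
    [0,0,0,0,0,0,0,0,0,0,0,0,0,0,0,0,0,0,0,0,0,0,0,0,0,0],
    [0,0,1,-1,-1,1,1,-1,1,1,-2,0,0,0,-1,1,1,0,0,-1,2,0,0,-1,0,1],
    [0,0,1,-1,0,0,1,0,-1,0,-2,0,0,0,-2,2,0,0,1,-1,1,0,0,1,0,0],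
    [0,0,0,0,0,0,0,0,0,0,0,0,0,0,0,0,0,0,0,0,0,0,0,0,0,0],
    [0,0,0,0,0,0,0,0,0,0,0,0,0,0,0,0,0,0,0,0,0,-1,0,0,0,0],
    [0,0,0,0,0,-1,-1,0,0,0,2,0,0,-1,2,-2,0,0,-1,1,-1,0,1,0,0,-1],
    [0,0,1,-1,0,-1,0,0,0,0,0,0,0,0,0,0,0,0,1,0,0,0,0,0,0,-1],
    [0,0,-1,1,0,0,-1,0,0,0,2,0,0,0,2,-2,0,0,-1,1,-1,0,0,0,0,0],
    [0,0,1,-1,0,-1,0,0,0,0,0,0,0,0,0,0,0,0,1,0,1,0,0,0,0,0],
    [0,0,-1,1,0,1,0,0,0,0,0,0,0,0,0,0,0,0,-1,0,0,0,0,0,0,0],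
    [0,0,1,-1,0,0,1,0,0,0,-1,0,0,0,-1,1,0,0,1,-1,1,0,0,0,0,0],
    [0,0,0,0,0,0,0,0,0,0,1,0,0,0,0,0,0,0,0,0,0,0,0,0,0,0],
    [0,0,0,0,0,0,0,0,0,0,0,0,0,0,0,0,-1,0,0,0,0,0,0,0,0,0],
    [0,0,-1,1,0,1,0,0,0,0,0,-1,0,0,0,0,0,0,-1,0,-1,0,0,0,0,0],
    [0,0,0,0,0,0,0,0,0,0,0,0,1,0,0,0,0,0,0,0,0,0,0,0,0,0],
    [0,0,0,0,0,0,0,0,0,0,0,0,0,0,0,0,0,0,1,0,0,0,0,0,0,0]]
  zeta := [0,0,0,0,0,0,0,0,0,0,1,-1,-1,0,0,0,0,0,0,0,0,0,0,0,0,0,0,0]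
  mu := [0,0,0,0,2,-2,0,0,0,0,1,0,0,2,2,0,0,0,2,-2,2,-2,2,0,0,-2,0,0]
  bound := 4
  lamz := [0,0,-2,2,0,2,0,0,0,0,0,0,0,0,0,0,0,-1,-2,0,-2,0,0,0,0,0]

/-- Generators. -/
def gensTwo : List ℕ := [963238465211615445959590984204552736,979463059671913328358098609083353120,959968451597855124662187115405838976,965346966670364367458681901213092896,979625635716138325955160962816418848,960154302143379000665722555663588384,962750373820247208505083556844120096]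

/-- Conjugating elements. -/
def conjTwo : List ℕ := [965290780422260019410227235468813824,970198348325354809978855006403135872,979094199164768027654059529699272352,980873973821854143059595965717094784,974474043102148733841709825733743648]

/-- The codes sorted by key. -/
def sortedTwo : List ℕ := [47,41,44,42,45,43,46,40,103,81,4,114,53,67,22,32,23,33,84,98,5,115,70,48,7,113,100,82,21,35,54,64,119,1,52,66,37,19,102,80,15,73,12,74,77,11,78,8,95,89,124,58,29,27,126,56,111,105,108,106,109,107,110,104,39,17,68,50,117,3,86,96,63,121,28,26,61,123,94,88,127,57,92,90,125,59,30,24,79,9,76,10,13,75,14,72,31,25,60,122,93,91,62,120,55,65,116,2,101,83,38,16,87,97,20,34,69,51,6,112,71,49,36,18,85,99,118,0]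

/-- Certificate data. -/
def dataThree : Engine.Data where
  p := 3
  n := 2
  rhs := [
    [],
    [],
    [0,1]]
  ord := [3,3]
  eqs := [
    .cons [1,1,1] [0]]
  comp := [
    [0,1,0],
    [1,0,0]]
  coord := [
    [0,1],
    [1,0],
    [0,0]]
  scale := 3
  back := [
    [0,1],
    [1,0]]
  lam := [
    [0],
    [0],
    [0]]
  zeta := [0,0,1]
  mu := [0,0,1]
  bound := 3
  lamz := [-1]

/-- Generators. -/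
def gensThree : List ℕ := [959781886490609693794796142590175776,966338196387988136961355425312873504]

/-- Conjugating elements. -/
def conjThree : List ℕ := []

/-- The codes sorted by key. -/
def sortedThree : List ℕ := [6,1,5,7,2,3,8,4,0]

end Cfsg.Agent.Lib.SchurMult.MTwentyTwo
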